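import Groth.Agent.Coherent.K585.Defs
import Groth.Agent.FGA.K277.ChiHilb
import Groth.Agent.Coherent.K51.Cor
import Groth.Agent.Coherent.K51.Simp
import Groth.Agent.Sga67.CMReg

/-!
# Semistable sheaves with a fixed Hilbert polynomial are uniformly regular (node REG)

`g : Y ⟶ P^n_ℤ`, `E` a module on `Y`.

* `gY g E`: the family `a ↦ E(a) = E ⊗ g^* O(a)` with the operators `X_i`; `framed`, `locInv`;
* `exists_sum`, `span_eq_top`: consequences of `H^j(Y, E(m - j)) = 0` for `1 ≤ j ≤ n`;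
* `mul_TwSec`, `gen_TwSec`: the same in terms of twisted sections `TwSec g q E m`;
* `rg_of_regular`, `reg`.
-/

set_option autoImplicit false
universe u

open CategoryTheory CategoryTheory.Limits AlgebraicGeometry Opposite TopologicalSpace

namespace Groth.Agent.Coherent.K569.Reg

open Groth.Agent Fga.QTDefs Fga.QTPull Fga.QT4 Fga.QT4b Fga.QT8 K277.Frames K277.TwSecIso
  CurvesC.ProjSpaceBasic Ega2.TwistBasic CohqA.PullbackQCoh Fga.TwistGr

section P

variable (n : ℕ) (R : Type u) [CommRing R]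

/-- `X_i · X_j^a = (X_i / X_j) X_j^{a+1}`. -/
lemma mulVar_gen0 (i j : Fin (n + 1)) (a : ℤ) :
    (mulVar n R i a).app (Dp n R j) (gen0 n R a j) = ratio n R j i • gen0 n R (a + 1) j := by
  apply Subtype.ext
  funext x
  apply Subtype.ext
  refine Eq.trans (?_ : _ = algebraMap (MvPolynomial (Fin (n + 1)) R) (Twist.Loc (CohB1.polyGrading n R) x.1)
      (MvPolynomial.X i) * Localization.mk (MvPolynomial.X j ^ a.toNat)
        ⟨MvPolynomial.X j ^ (-a).toNat, X_pow_notMem n R j _ x.1 x.2⟩) ?_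
  · rfl
  · refine Eq.trans ?_ (Twist.coe_smul_val (𝒜 := CohB1.polyGrading n R) _ x.1 ((show
      (ProjectiveSpectrum.Proj.structureSheaf (CohB1.polyGrading n R)).1.obj (op (Dp n R j)) from
        ratio n R j i).1 x) _).symm
    rw [ratio_val n R j i x.1 x.2]
    refine Eq.trans (?_ : _ = _) (?_ : (Localization.mk (MvPolynomial.X i) ⟨MvPolynomial.X j, x.2⟩ :
      Twist.Loc (CohB1.polyGrading n R) x.1) * Localization.mk (MvPolynomial.X j ^ (a + 1).toNat)
        ⟨MvPolynomial.X j ^ (-(a + 1)).toNat, X_pow_notMem n R j _ x.1 x.2⟩ = _)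
    · rw [← Localization.mk_one_eq_algebraMap, Localization.mk_mul, Localization.mk_mul,
        Localization.mk_eq_mk_iff, Localization.r_iff_exists]
      refine ⟨1, ?_⟩
      simp only [OneMemClass.coe_one, one_mul, Submonoid.coe_mul]
      rcases lt_or_ge a 0 with ha | ha
      · obtain ⟨m, hm⟩ : ∃ m : ℕ, (-a).toNat = m + 1 := ⟨(-a).toNat - 1, by omega⟩
        have h1 : a.toNat = 0 := by omega
        have h2 : (a + 1).toNat = 0 := by omega
        have h3 : (-(a + 1)).toNat = m := by omega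
        rw [hm, h1, h2, h3]
        ring
      · obtain ⟨m, hm⟩ : ∃ m : ℕ, a.toNat = m := ⟨_, rfl⟩
        have h1 : (-a).toNat = 0 := by omega
        have h2 : (a + 1).toNat = m + 1 := by omega
        have h3 : (-(a + 1)).toNat = 0 := by omega
        rw [hm, h1, h2, h3]
        ring
    · rfl

end P

section Y

variable {n : ℕ} {Y : Scheme.{u}} (g : Y ⟶ PZ n)

/-- Multiplication by `X_i` on `g^* O(a)`. -/
noncomputable def mv (i : Fin (n + 1)) (a : ℤ) :
    (Scheme.Modules.pullback g).obj (Twist.twistProjSpace n (ULift.{u} ℤ) a) ⟶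
      (Scheme.Modules.pullback g).obj (Twist.twistProjSpace n (ULift.{u} ℤ) (a + 1)) :=
  (Scheme.Modules.pullback g).map (mulVar n (ULift.{u} ℤ) i a)

lemma mv_comm (i j : Fin (n + 1)) (a : ℤ) : mv g i a ≫ mv g j (a + 1) = mv g j a ≫ mv g i (a + 1) := by
  unfold mv
  rw [← Functor.map_comp, ← Functor.map_comp, mulVar_comm]

lemma mv_t (i j : Fin (n + 1)) (a : ℤ) :
    (mv g i a).app (V g j) ((TwFr.of g a).t j) = y g j i • (TwFr.of g (a + 1)).t j := by
  change ((Scheme.Modules.pullback g).map (mulVar n (ULift.{u} ℤ) i a)).app (V g j)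
    (pbSec g _ (Dp n (ULift.{u} ℤ) j) (V g j) (V_le0 g j) (gen0 n (ULift.{u} ℤ) a j)) = _
  rw [Fga.QTPull.pbSec_naturality, mulVar_gen0, pbSec_smul]
  congr 1
  have h := resR_y g j i (le_refl (Dp n (ULift.{u} ℤ) j)) (V_le0 g j) (le_refl (V g j))
  rw [resR_self] at h
  rw [h]
  have h1 : (PZ.{u} n).presheaf.map (homOfLE (le_refl (Dp n (ULift.{u} ℤ) j))).op (ratio n (ULift.{u} ℤ) j i) =
      ratio n (ULift.{u} ℤ) j i := by
    change (PZ.{u} n).presheaf.map (𝟙 _) _ = _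
    rw [(PZ.{u} n).presheaf.map_id]
    rfl
  rw [h1]
  rfl

lemma mv_rel (i k : Fin (n + 1)) (a : ℤ) {W : Y.Opens} (hW : W ≤ V g k)
    (s : Γ((Scheme.Modules.pullback g).obj (Twist.twistProjSpace n (ULift.{u} ℤ) a), W)) :
    (mv g i a).app W s = Ega4dA.GenSec.resO Y hW (y g k i) • (mv g k a).app W s := by
  obtain ⟨c, rfl⟩ := (((TwFr.of g a).gen k).res hW).exists_eq s
  rw [Scheme.Modules.Hom.app_smul, Scheme.Modules.Hom.app_smul, Fdesc.LocGen.app_res, Fdesc.LocGen.app_res, mv_t,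
    mv_t, y_self, one_smul, Fdesc.LocGen.res_smul, smul_comm]
  rfl

lemma mv_bijective (k : Fin (n + 1)) (a : ℤ) (W : Y.Opens) (hW : W ≤ V g k) :
    Function.Bijective ((mv g k a).app W) := by
  have h1 := (((TwFr.of g a).gen k).res hW).bijective
  have h2 := (((TwFr.of g (a + 1)).gen k).res hW).bijective
  refine (Function.Bijective.of_comp_iff _ h1).1 ?_
  convert h2 using 1
  funext c
  rw [Function.comp_apply, Scheme.Modules.Hom.app_smul, Fdesc.LocGen.app_res, mv_t, y_self, one_smul]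

variable (E : Y.Modules)

open VarietyB.KoszulCone in
/-- The family `a ↦ E(a)` with the operators `X_i`. -/
noncomputable def gY : GrOp Y.Modules (n + 1) where
  obj a := K585.Defs.twg g E a
  x i a := tmap E (mv g i a)
  comm i j a := (tmap_comp E (mv g i a) (mv g j (a + 1))).symm.trans
    ((congrArg (tmap E) (mv_comm g i j a)).trans (tmap_comp E (mv g j a) (mv g i (a + 1))))

lemma gY_bijective (k : Fin (n + 1)) (a : ℤ) (W : Y.Opens) (hW : W ≤ V g k) :
    Function.Bijective (((gY g E).x k a).app W) :=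
  tmap_app_bijective E _ _ (fun W hW => mv_bijective g k a W hW) W hW

/-- The frame. -/
noncomputable def framed (haff : ∀ i, IsAffineOpen (V g i)) : Sga67.FramedGr.Framed (gY g E) where
  W := V g
  g j k := y g k j
  cov := iSup_V g
  basic j k := by rw [basicOpen_y, inf_comm]
  aff := haff
  bij k a W hW := gY_bijective g E k a W hW
  rel j k a W hW s := Sga67.CMReg.tmap_rel E (mv g j a) (mv g k a) _ (y g k j)
    (fun _ hW s => mv_rel g j k a hW s) W hW s

lemma locInv : VarietyB.KoszulShift.LocInv (gY g E) := fun p => by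
  have h : p ∈ ⨆ i, V g i := by rw [iSup_V]; trivial
  obtain ⟨i, hi⟩ := Opens.mem_iSup.mp h
  exact ⟨V g i, i, hi, fun a => isIso_restrict_of_app _ _ fun W hW => gY_bijective g E i a W hW⟩

variable {E}

open VarietyB.KoszulShift Fga.HShift in
/-- Castelnuovo's lemma, `H⁰`. -/
theorem exists_sum_H0 (m : ℤ)
    (h : ∀ j : ℕ, 1 ≤ j → j ≤ n → Subsingleton (Coh.HH Y (K585.Defs.twg g E (m - j)) j))
    (t : (HHF Y 0).obj ((gY g E).obj (m + 1))) :
    ∃ s : Fin (n + 1) → (HHF Y 0).obj ((gY g E).obj m), ∑ i, (HHF Y 0).map ((gY g E).x i m) (s i) = t := by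
  have key : ∀ (b : ℤ) (hb : b + 1 = m + 1), ∃ s : Fin (n + 1) → (HHF Y 0).obj ((gY g E).obj b),
      (∑ i, (HHF Y 0).map ((gY g E).x i b) (s i) : (HHF Y 0).obj ((gY g E).obj (b + 1))) = hb ▸ t := by
    refine VarietyB.KoszulShift.forall_H0 (gY g E) (locInv g E) (m + 1) ?_
      (fun a u => ∀ (b : ℤ) (hb : b + 1 = a), ∃ s : Fin (n + 1) → (HHF Y 0).obj ((gY g E).obj b),
        (∑ i, (HHF Y 0).map ((gY g E).x i b) (s i) : (HHF Y 0).obj ((gY g E).obj (b + 1))) = hb ▸ u) ?_ ?_ ?_ t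
    · intro j hj hj'
      have h1 := h j hj (by omega)
      have e : m - (j : ℤ) = m + 1 - 1 - j := by ring
      rw [e] at h1
      exact h1
    · rintro a s t hs ht b rfl
      obtain ⟨s', hs'⟩ := hs b rfl
      obtain ⟨t', ht'⟩ := ht b rfl
      refine ⟨s' + t', ?_⟩
      change _ = s + t
      change _ = s at hs'
      change _ = t at ht'
      rw [← hs', ← ht', ← Finset.sum_add_distrib]
      exact Finset.sum_congr rfl fun i _ => map_add _ _ _
    · rintro a b rfl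
      refine ⟨0, ?_⟩
      change _ = 0
      exact Finset.sum_eq_zero fun i _ => map_zero _
    · rintro i a t b hb
      obtain rfl : b = a := by omega
      refine ⟨Pi.single i t, ?_⟩
      change _ = (HHF Y 0).map ((gY g E).x i b) t
      rw [Finset.sum_eq_single i]
      · rw [Pi.single_eq_same]
      · intro j _ hj
        rw [Pi.single_eq_of_ne hj]
        exact map_zero _
      · intro hi
        exact absurd (Finset.mem_univ i) hi
  exact key m rfl

open VarietyB.KoszulShift Fga.HShift in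
theorem exists_sum (m : ℤ)
    (h : ∀ j : ℕ, 1 ≤ j → j ≤ n → Subsingleton (Coh.HH Y (K585.Defs.twg g E (m - j)) j))
    (t : Γ((gY g E).obj (m + 1), ⊤)) :
    ∃ s : Fin (n + 1) → Γ((gY g E).obj m, ⊤), ∑ i, ((gY g E).x i m).app ⊤ (s i) = t := by
  obtain ⟨s, hs⟩ := exists_sum_H0 g m h ((CurvesB.HZero.equivAdd ((gY g E).obj (m + 1))).symm t)
  refine ⟨fun i => CurvesB.HZero.equivAdd ((gY g E).obj m) (s i), ?_⟩
  have h1 := congrArg (CurvesB.HZero.equivAdd ((gY g E).obj (m + 1))) hs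
  rw [AddEquiv.apply_symm_apply] at h1
  rw [← h1]
  have h2 := map_sum (CurvesB.HZero.equivAdd ((gY g E).obj (m + 1))) (fun i =>
    ((HHF Y 0).map ((gY g E).x i m) (s i) : Coh.HH _ ((gY g E).obj (m + 1)) 0)) Finset.univ
  refine Eq.trans ?_ h2.symm
  refine Finset.sum_congr rfl fun i _ => ?_
  exact (CurvesB.HZero.equivAdd_map ((gY g E).x i m) (s i)).symm

section Tw

variable {g} {A : Type u} [CommRing A] (q : Y ⟶ Spec (CommRingCat.of A))

/-- The identification of sections of `E(m)` with twisted sections. -/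
noncomputable abbrev sE (m : ℕ) : Γ(K585.Defs.twg g E (m : ℤ), ⊤) ≃+ TwSec g q E m :=
  secEquiv q E (TwFr.of g (m : ℤ))

variable (g E) in
/-- `X_i (z ⊗ ℓ) = z ⊗ X_i ℓ`. -/
lemma gY_tm (i : Fin (n + 1)) (a : ℤ) (U : Y.Opens)
    (ℓ : Γ((Scheme.Modules.pullback g).obj (Twist.twistProjSpace n (ULift.{u} ℤ) a), U)) (z : Γ(E, U)) :
    ((gY g E).x i a).app U (tm E ℓ z) = tm E ((mv g i a).app U ℓ) z :=
  tmap_app_tmul E (mv g i a) z ℓ

variable (g E) in
/-- The operator `X_i` on global sections. -/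
noncomputable def xs (i : Fin (n + 1)) (m : ℕ) (z : Γ(K585.Defs.twg g E (m : ℤ), ⊤)) :
    Γ(K585.Defs.twg g E ((m + 1 : ℕ) : ℤ), ⊤) := ((gY g E).x i (m : ℤ)).app ⊤ z

/-- The operator `X_i` on twisted sections. -/
lemma sE_x (i : Fin (n + 1)) (m : ℕ) (z : Γ(K585.Defs.twg g E (m : ℤ), ⊤)) :
    (sE q (m + 1) (xs g E i m z)).1 = K585.Defs.mulL g q E (MvPolynomial.X i) (sE q m z).1 := by
  funext j
  apply (tm_bijective E ((TwFr.of g ((m + 1 : ℕ) : ℤ)).gen j)).1
  refine (tm_secEquiv q E (TwFr.of g ((m + 1 : ℕ) : ℤ)) (xs g E i m z) j).trans ?_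
  rw [K585.Defs.mulL_apply, ev_X, tm_smul, ← tm_smul_left]
  have h1 : y g j i • (TwFr.of g ((m + 1 : ℕ) : ℤ)).t j =
      (mv g i (m : ℤ)).app (V g j) ((TwFr.of g (m : ℤ)).t j) := (mv_t g i j (m : ℤ)).symm
  rw [h1]
  refine Eq.trans ?_ (gY_tm g E i (m : ℤ) (V g j) ((TwFr.of g (m : ℤ)).t j) _)
  refine Eq.trans ?_ (congrArg (((gY g E).x i (m : ℤ)).app (V g j))
    (tm_secEquiv q E (TwFr.of g (m : ℤ)) z j).symm)
  exact (Sga67.FramedGr.app_res' ((gY g E).x i (m : ℤ)) (le_top : V g j ≤ ⊤) z).symm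

/-- Surjectivity of multiplication. -/
theorem mul_TwSec (m : ℕ)
    (h : ∀ j : ℕ, 1 ≤ j → j ≤ n → Subsingleton (Coh.HH Y (K585.Defs.twg g E (m - j)) j)) :
    TwSec g q E (m + 1) ≤ ⨆ j, (TwSec g q E m).map (K585.Defs.mulL g q E (MvPolynomial.X j)) := by
  intro t ht
  have hs : ∃ s : Fin (n + 1) → Γ(K585.Defs.twg g E (m : ℤ), ⊤),
      ∑ i, xs g E i m (s i) = (sE q (m + 1)).symm ⟨t, ht⟩ :=
    exists_sum g (m : ℤ) h ((sE q (m + 1)).symm ⟨t, ht⟩)
  obtain ⟨s, hs⟩ := hs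
  have h1 : t = ∑ i, K585.Defs.mulL g q E (MvPolynomial.X i) (sE q m (s i)).1 := by
    have h3 : (sE q (m + 1) (∑ i, xs g E i m (s i))).1 = t := by rw [hs, AddEquiv.apply_symm_apply]
    rw [map_sum, AddSubmonoidClass.coe_finsetSum] at h3
    rw [← h3]
    exact Finset.sum_congr rfl fun i _ => sE_x q i m (s i)
  rw [h1]
  exact Submodule.sum_mem _ fun i _ => Submodule.mem_iSup_of_mem i
    (Submodule.mem_map_of_mem (sE q m (s i)).2)

/-- Generation by sections. -/
theorem gen_TwSec (haff : ∀ i, IsAffineOpen (V g i)) (hqc : Coh.IsQCoh E) (m : ℕ)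
    (h : ∀ m' : ℤ, (m : ℤ) ≤ m' → ∀ j : ℕ, 1 ≤ j → j ≤ n → Subsingleton (Coh.HH Y (K585.Defs.twg g E (m' - j)) j))
    (i : Fin (n + 1)) :
    Submodule.span Γ(Y, V g i) (Set.range fun s : TwSec g q E m => s.1 i) = ⊤ := by
  have hq : Coh.IsQCoh ((gY g E).obj (m : ℤ)) :=
    Ega2.TensGen.isQCoh_tensor hqc (Fdesc.LocGen.isInvertible_pullback g
      (FormalB.TwistGen.isInvertible_twistProjSpace n (ULift.{u} ℤ) m))
  have h1 : Submodule.span Γ(Y, V g i)
      (Set.range (Ega4dA.GenSec.res (K585.Defs.twg g E (m : ℤ)) (le_top : V g i ≤ ⊤))) = ⊤ :=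
    Sga67.FramedGr.span_eq_top (m : ℤ) (framed g E haff) hq (fun N t => by
    refine exists_sum g _ (fun j hj hj' => h _ ?_ j hj hj') t
    rw [Sga67.FramedGr.idx_eq]
    omega) i
  rw [eq_top_iff]
  rintro z -
  have h2 : tm E ((TwFr.of g (m : ℤ)).t i) z ∈ Submodule.span Γ(Y, V g i)
      (Set.range (Ega4dA.GenSec.res (K585.Defs.twg g E (m : ℤ)) (le_top : V g i ≤ ⊤))) := by
    rw [h1]; trivial
  have key : ∀ w ∈ Submodule.span Γ(Y, V g i)
      (Set.range (Ega4dA.GenSec.res (K585.Defs.twg g E (m : ℤ)) (le_top : V g i ≤ ⊤))),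
      ∃ z' ∈ Submodule.span Γ(Y, V g i) (Set.range fun s : TwSec g q E m => s.1 i),
        tm E ((TwFr.of g (m : ℤ)).t i) z' = w := by
    intro w hw
    induction hw using Submodule.span_induction with
    | mem w hw =>
      obtain ⟨u, rfl⟩ := hw
      exact ⟨(sE q m u).1 i, Submodule.subset_span ⟨sE q m u, rfl⟩,
        tm_secEquiv q E (TwFr.of g (m : ℤ)) u i⟩
    | zero => exact ⟨0, zero_mem _, map_zero _⟩
    | add w w' _ _ hw hw' =>
      obtain ⟨z, hz, rfl⟩ := hw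
      obtain ⟨z', hz', rfl⟩ := hw'
      exact ⟨z + z', add_mem hz hz', map_add _ _ _⟩
    | smul c w _ hw =>
      obtain ⟨z, hz, rfl⟩ := hw
      exact ⟨c • z, Submodule.smul_mem _ c hz, tm_smul E _ c z⟩
  obtain ⟨z', hz', h3⟩ := key _ h2
  rw [← (tm_bijective E ((TwFr.of g (m : ℤ)).gen i)).1 h3]
  exact hz'

end Tw

end Y

section Field

open Coherent.K51.Klm Coherent.K51.LPS Coherent.K51.Emb Coherent.K51.Cor Pic13.H951.PresentX K277.ChiHilb

variable (k : Type u) [Field k] {n : ℕ} {Y : Scheme.{u}} [Y.Over (Spec (CommRingCat.of k))] (g : Y ⟶ PZ n)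
  [IsClosedImmersion (toPA g (Y ↘ Spec (CommRingCat.of k)))]

/-- `H^q(Y, E(m)) ≅ H^q(P^n, (i_* E)(m))`. -/
noncomputable def hhTw (E : Y.Modules) (m : ℤ) (q : ℕ) :
    Coh.HH Y (K585.Defs.twg g E m) q ≃ₗ[k] Coh.HH (CohB1.ProjSpace n k)
      (CohB1.tensorMod ((Scheme.Modules.pushforward (emb k g)).obj E) (Twist.twistProjSpace n k m)) q :=
  (Fga.PicMon.hmapEquiv k Y (twIso k g E m).symm q).trans
    ((CurvesC.CurveNum.hhPushₗ k (emb k g) (emb_toSpec k g)
      (CohB1.tensorMod E ((Scheme.Modules.pullback (emb k g)).obj (Twist.twistProjSpace n k m))) q).trans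
    (Fga.PicMon.hmapEquiv k (CohB1.ProjSpace n k) (K277.ChiHilb.pushTwist k (i := emb k g) E m) q))

theorem euler_tw (E : Y.Modules) (m : ℤ) :
    Curv2.euler k Y (K585.Defs.twg g E m) = Curv2.euler k (CohB1.ProjSpace n k)
      (CohB1.tensorMod ((Scheme.Modules.pushforward (emb k g)).obj E) (Twist.twistProjSpace n k m)) := by
  unfold Curv2.euler
  refine finsum_congr fun q => ?_
  rw [(hhTw k g E m q).finrank_eq]

theorem hp_iff (E : Y.Modules) (P : Polynomial ℚ) :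
    HP k n ((Scheme.Modules.pushforward (emb k g)).obj E) P ↔
      ∀ m : ℤ, (Curv2.euler k Y (K585.Defs.twg g E m) : ℚ) = P.eval (m : ℚ) := by
  refine forall_congr' fun m => ?_
  rw [euler_tw]

/-- Regularity on `P^n` gives `Rg`. -/
theorem rg_of_regular {E : Y.Modules} (hE : Coh.IsCoh E) {m : ℤ}
    (h : Curv2.IsMRegular k n ((Scheme.Modules.pushforward (emb k g)).obj E) m) (N : ℕ) (hN : m ≤ N) :
    K585.Defs.Rg k g E N := by
  have h0 : Sga67.CMReg.Reg ((Scheme.Modules.pushforward (emb k g)).obj E) m := h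
  have hqc : Coh.IsQCoh ((Scheme.Modules.pushforward (emb k g)).obj E) :=
    CohqA.AffPush.isQCoh_push (emb k g) E hE.1
  have hv : ∀ m' : ℤ, m ≤ m' → ∀ j : ℕ, 1 ≤ j → ∀ a : ℤ, m' - j ≤ a →
      Subsingleton (Coh.HH Y (K585.Defs.twg g E a) j) := by
    intro m' hm' j hj a ha
    have h1 := Sga67.CMReg.subsingleton_HH hqc h0 j hj a (by omega)
    exact (hhTw k g E a j).toEquiv.subsingleton
  refine ⟨fun a ha i hi => hv N hN i hi a (by omega), fun a ha i => ?_, fun a ha => ?_⟩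
  · exact gen_TwSec (Y ↘ Spec (CommRingCat.of k)) (isAffineOpen_V g (Y ↘ Spec (CommRingCat.of k))) hE.1 a
      (fun m' hm' j hj _ => hv m' (by omega) j hj _ le_rfl) i
  · exact mul_TwSec (Y ↘ Spec (CommRingCat.of k)) a (fun j hj _ => hv a (by omega) j hj _ le_rfl)

/-- The data of a semistable sheaf on `P^n`. -/
theorem push_ss {P : Polynomial ℚ} {E : Y.Modules} (hE : K585.Defs.SSh k g P E) :
    ∀ (G : (CohB1.ProjSpace n k).Modules) (ι : G ⟶ (Scheme.Modules.pushforward (emb k g)).obj E), Mono ι →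
      Coh.IsCoh G → ¬ IsZero G →
        topologicalKrullDim ↥(CohB1.support G) = (P.natDegree : WithBot ℕ∞) ∧
        ∀ ψ : Polynomial ℚ, HP k n G ψ → W4c2simpsonmod1.RedLE P.natDegree ψ P := by
  refine forall_sub (emb k g) (Q := fun G => topologicalKrullDim ↥(CohB1.support G) = (P.natDegree : WithBot ℕ∞) ∧
    ∀ ψ : Polynomial ℚ, HP k n G ψ → W4c2simpsonmod1.RedLE P.natDegree ψ P) ?_ ?_
  · rintro G G' e' ⟨h1, h2⟩
    exact ⟨(dim_iso e') ▸ h1, fun ψ hψ => h2 ψ (HP_iso e'.symm hψ)⟩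
  · intro G ι hι hG hG0
    obtain ⟨h1, h2⟩ := hE.sub G ι hι hG hG0
    exact ⟨(dim_support_push (emb k g) G).trans h1, fun ψ hψ => h2 ψ ((hp_iff k g G ψ).1 hψ)⟩

end Field

open Coherent.K51.Klm Coherent.K51.LPS Coherent.K51.Emb Coherent.K51.Cor Pic13.H951.PresentX K277.ChiHilb in
/-- **Semistable sheaves with a fixed Hilbert polynomial are uniformly regular** (characteristic zero, any closed
subscheme of `P^n`). -/
theorem reg_all (n : ℕ) (P : Polynomial ℚ) : ∃ N₀ : ℕ, ∀ N : ℕ, N₀ ≤ N →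
    ∀ (k : Type u) [Field k] [CharZero k] (Y : Scheme.{u}) [Y.Over (Spec (CommRingCat.of k))] (g : Y ⟶ PZ n)
      [IsClosedImmersion (toPA g (Y ↘ Spec (CommRingCat.of k)))] (E : Y.Modules),
      K585.Defs.SSh k g P E → K585.Defs.Rg k g E N := by
  obtain ⟨m, hm⟩ := exists_regular Coherent.K51.Simp.unifAll.{u} n P P.natDegree (W4c2simpsonmod1.slopeOf P.natDegree P)
  refine ⟨m.toNat, fun N hN k _ _ Y _ g _ E hE => ?_⟩
  have h1 : Coh.IsCoh ((Scheme.Modules.pushforward (emb k g)).obj E) :=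
    ⟨CohqA.AffPush.isQCoh_push (emb k g) E hE.coh.1, CohqA.AffPush.isFT_push (emb k g) E hE.coh.1 hE.coh.2⟩
  have h2 := (hp_iff k g E P).2 hE.hp
  have h3 := (dim_support_push (emb k g) E).trans hE.dim
  exact rg_of_regular k g hE.coh (hm k inferInstance _ h1 h2 h3 (slopeLE_of_ss h1 h2 h3 (push_ss k g hE))) N (by omega)

/-- NODE REG. -/
theorem reg (n : ℕ) (P : Polynomial ℚ) : ∃ N₀ : ℕ, ∀ N : ℕ, N₀ ≤ N →
    ∀ (Y : Scheme.{0}) [Y.Over (Spec (CommRingCat.of ℂ))] (g : Y ⟶ PZ n)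
      [IsClosedImmersion (toPA g (Y ↘ Spec (CommRingCat.of ℂ)))] (E : Y.Modules),
      K585.Defs.SSh ℂ g P E → K585.Defs.Rg ℂ g E N := by
  obtain ⟨N₀, h⟩ := reg_all.{0} n P
  exact ⟨N₀, fun N hN Y _ g _ E hE => h N hN ℂ Y g E hE⟩

end Groth.Agent.Coherent.K569.Reg
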